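import Mathlib
import Cfsg.Agent.SUPres.Derive
import Cfsg.Agent.SUPres.Amalgam
import Cfsg.Agent.SUPres.FourPres
import Cfsg.Agent.AltPres54.Tietze
import Cfsg.Agent.SLPres77.Amalgam
import Cfsg.Agent.S2290
import Cfsg.Agent.S2289

/-!
The short presentations of `SU_n` and `PSU_n`, `n ≥ 4`.
-/

set_option autoImplicit false
set_option maxHeartbeats 1000000

namespace CfsgLib.SUPres

open Cfsg CfsgLib.Unitary CfsgLib.Phan Equiv
open CfsgLib.SLPres77 (pt pt_inj exists_alt_two)
open CfsgLib.SUPres77 (extAlt extAlt_apply extAlt_other altToSU altToSU_conj_emb emb_altToSU)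

variable {F : Type*} [Field F] [Fintype F] {q n : ℕ} (hF : Fintype.card F = q ^ 2)

/-- The commutator. -/
def comm {G : Type*} [Group G] (x y : G) : G := x * y * x⁻¹ * y⁻¹

theorem comm_eq_one {G : Type*} [Group G] {x y : G} : comm x y = 1 ↔ Commute x y := by
  rw [comm, mul_inv_eq_one, mul_inv_eq_iff_eq_mul]
  exact Iff.rfl

include hF

theorem mat_emb_apply {k m : ℕ} (f : Fin k ↪ Fin m) (u : ↥(SU k F q)) (i j : Fin k) :
    mat (emb hF f u) (f i) (f j) = mat u i j := by
  rw [← sv_single, ← incl_mulVec_single (F := F) f j, sv_emb_incl, incl_mulVec_apply, sv_single]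

theorem sw2_sw2 (u : ↥(SU 2 F q)) : emb hF sw2 (emb hF sw2 u) = u := by
  rw [emb_trans, show sw2.trans sw2 = Function.Embedding.refl (Fin 2) from
    Function.Embedding.ext (by decide), emb_refl]

/-- One element and its swap generate `SU₂(2)`. -/
theorem exists_gen_two (hq : q = 2) :
    ∃ u : ↥(SU 2 F q), Subgroup.closure ({u, emb hF sw2 u} : Set ↥(SU 2 F q)) = ⊤ := by
  obtain ⟨μ, -, hμ⟩ := exists_gen hF (Or.inl hq)
  have h2 : (1 : F) + 1 = 0 := by
    have := neg_one_pow_succ hF
    rw [hq] at this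
    linear_combination -this
  have hneg : ∀ x : F, -x = x := fun x => by linear_combination -x * h2
  refine ⟨anti2 hF μ, ?_⟩
  set K := Subgroup.closure ({anti2 hF μ, emb hF sw2 (anti2 hF μ)} : Set ↥(SU 2 F q))
  have hsw : emb hF sw2 (anti2 hF μ) = anti2 hF (conjN hF μ) := by
    refine su_two_ext hF ?_ ?_
    · rw [show (0 : Fin 2) = sw2 1 by decide, mat_emb_apply, mat_anti2, mat_anti2]
      rfl
    · rw [show mat (emb hF sw2 (anti2 hF μ)) 0 1 = mat (anti2 hF μ) 1 0 from
        (show mat (emb hF sw2 (anti2 hF μ)) (sw2 1) (sw2 0) = _ from mat_emb_apply hF sw2 _ 1 0)]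
      simp [mat_anti2, conjN, hneg]
  have h3 : μ.1 ^ 3 = 1 := by
    have h := μ.2
    exact (congrArg (fun e => μ.1 ^ e) (show q + 1 = 3 by omega)).symm.trans h
  have hμ2 : diag2 hF (mulN μ μ) ∈ K := by
    have h : anti2 hF μ * anti2 hF (conjN hF μ) = diag2 hF (mulN μ μ) := by
      refine su_two_ext hF ?_ ?_ <;>
        simp [mat_mul, mat_anti2, mat_diag2, conjN, mulN, Matrix.mul_apply, Fin.sum_univ_two, hneg,
          pow_q_q hF]
    rw [← h, ← hsw]
    exact K.mul_mem (Subgroup.subset_closure (Or.inl rfl)) (Subgroup.subset_closure (Or.inr rfl))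
  have hdμ : diag2 hF μ ∈ K := by
    have h := K.pow_mem hμ2 2
    rw [diag2_pow] at h
    convert h using 2
    refine Subtype.ext ?_
    simp only [mulN]
    linear_combination (-μ.1) * h3
  have hd : ∀ a, diag2 hF a ∈ K := fun a => by
    obtain ⟨i, -, hi⟩ := hμ a
    have h := K.pow_mem hdμ i
    rw [diag2_pow] at h
    convert h using 2
    exact Subtype.ext hi.symm
  have ha : ∀ a, anti2 hF a ∈ K := fun a => by
    have h := K.mul_mem (hd (mulN a (conjN hF μ))) (Subgroup.subset_closure (Or.inl rfl) : anti2 hF μ ∈ K)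
    rw [diag2_mul_anti2] at h
    convert h using 2
    refine Subtype.ext ?_
    have h' := μ.2
    rw [pow_succ] at h'
    simp only [mulN, conjN]
    linear_combination (-a.1) * h'
  refine eq_top_iff.2 fun u _ => ?_
  obtain ⟨-, -, hN⟩ := su_two_entries hF u
  have h01 : ∀ x : F, x = 0 ∨ x ^ (q + 1) = 1 := fun x => by
    rcases eq_or_ne x 0 with h | h
    · exact Or.inl h
    · refine Or.inr ?_
      have h' := norm_pow_q hF x
      generalize hN' : x ^ (q + 1) = N at h' ⊢
      rw [hq] at h'
      refine mul_left_cancel₀ (a := N) (by rw [← hN']; exact pow_ne_zero _ h) ?_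
      rw [mul_one, ← sq]; exact h'
  rcases h01 (mat u 0 0) with h | h
  · obtain ⟨a, rfl⟩ := exists_anti2 hF h; exact ha a
  rcases h01 (mat u 0 1) with h' | h'
  · obtain ⟨a, rfl⟩ := exists_diag2 hF h'; exact hd a
  rw [h, h'] at hN
  exact absurd (add_eq_left.1 hN) one_ne_zero

omit hF in
open CfsgLib.SLTwoPres CfsgLib.Psl2Unipotent in
/-- `SL₂` of a field with at most three elements. -/
theorem sl_two_small {K : Type*} [Field K] [Fintype K] (h : Fintype.card K ≤ 3) :
    Subgroup.closure ({upperU 1, weylSL} : Set (Matrix.SpecialLinearGroup (Fin 2) K)) = ⊤ := by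
  obtain ⟨ζ, hζ⟩ := IsCyclic.exists_generator (α := Kˣ)
  have D := slData_matrix (F := K) ζ
  set H := Subgroup.closure ({upperU 1, weylSL} : Set (Matrix.SpecialLinearGroup (Fin 2) K))
  have hu : upperU 1 ∈ H := Subgroup.subset_closure (Or.inl rfl)
  have hw : weylSL ∈ H := Subgroup.subset_closure (Or.inr rfl)
  have hsmall : ∀ t : K, t = 0 ∨ t = 1 ∨ t = -1 := by
    intro t
    by_contra hc
    push Not at hc
    classical
    have hne : (1 : K) ≠ -1 ∨ Fintype.card K = 2 := by
      by_cases h1 : (1 : K) = -1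
      · right
        have hc2 : CharP K 2 := CharTwo.of_one_ne_zero_of_two_eq_zero one_ne_zero (by linear_combination h1)
        obtain ⟨m, -, hm⟩ := FiniteField.card K 2
        rcases Nat.lt_or_ge (m : ℕ) 2 with hlt | hge
        · have : (m : ℕ) = 1 := by have := m.pos; omega
          rw [hm, this, pow_one]
        · have : 2 ^ 2 ≤ 2 ^ (m : ℕ) := Nat.pow_le_pow_right (by norm_num) hge
          omega
      · exact Or.inl h1
    rcases hne with h1 | h2
    · have hc4 : ({0, 1, -1, t} : Finset K).card = 4 := by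
        simp [Finset.card_insert_of_notMem, h1, hc.1.symm, hc.2.1.symm, hc.2.2.symm,
          (zero_ne_one : (0 : K) ≠ 1)]
      have := Finset.card_le_univ ({0, 1, -1, t} : Finset K)
      omega
    · have hc3 : ({0, 1, t} : Finset K).card = 3 := by
        simp [Finset.card_insert_of_notMem, hc.1.symm, hc.2.1.symm, (zero_ne_one : (0 : K) ≠ 1)]
      have := Finset.card_le_univ ({0, 1, t} : Finset K)
      omega
  refine eq_top_iff.2 fun g _ => mem_of_generators hζ H (fun t => ?_) ?_ hw g
  · rcases hsmall t with rfl | rfl | rfl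
    · rw [D.x_zero]; exact H.one_mem
    · exact hu
    · rw [D.x_neg]; exact H.inv_mem hu
  · rcases hsmall (ζ : K) with h0 | h0 | h0
    · exact absurd h0 ζ.ne_zero
    · rw [show diagA ζ = (1 : Matrix.SpecialLinearGroup (Fin 2) K) from
        Subtype.ext (by ext i j; fin_cases i <;> fin_cases j <;> simp [diagA, h0])]
      exact H.one_mem
    · rw [show diagA ζ = weylSL * weylSL from
        Subtype.ext (by
          ext i j
          show (diagA ζ).1 i j = ((weylSL (F := K)).1 * (weylSL (F := K)).1) i j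
          fin_cases i <;> fin_cases j <;>
            simp [diagA, weylSL, h0, Matrix.SpecialLinearGroup.coe_mul, Matrix.mul_apply, Fin.sum_univ_two])]
      exact H.mul_mem hw hw

/-- `SU₂(q)` on two generators. -/
theorem exists_su_two_gens :
    ∃ u v : ↥(SU 2 F q), Subgroup.closure ({u, v} : Set ↥(SU 2 F q)) = ⊤ := by
  obtain ⟨K, iK, jK, H, ζ, η, hK, hσ, G⟩ := exists_hermPair hF
  obtain ⟨e⟩ := CfsgLib.UnitaryTwo.su_two_equiv_sl_two (K := K) hF hK
  obtain ⟨u, v, huv⟩ : ∃ u v : Matrix.SpecialLinearGroup (Fin 2) K,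
      Subgroup.closure ({u, v} : Set (Matrix.SpecialLinearGroup (Fin 2) K)) = ⊤ := by
    by_cases h4 : 4 ≤ Fintype.card K
    · exact Cfsg.Agent.S2290.sl_two_two_generated h4
    · exact ⟨_, _, sl_two_small (by omega)⟩
  refine ⟨e.symm u, e.symm v, ?_⟩
  have h := congrArg (Subgroup.map e.symm.toMonoidHom) huv
  rw [MonoidHom.map_closure, Subgroup.map_top_of_surjective _ e.symm.surjective, Set.image_pair] at h
  exact h

/-- The relations needed beside the identification on `A₄` and the centraliser of the first pair. -/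
theorem exists_extra_rels (hn : 5 ≤ n) :
    ∃ EX : List (Monoid.Coprod (alternatingGroup (Fin n)) ↥(SU 4 F q)),
      EX.length ≤ (if q = 2 then 6 else 0) ∧
      (∀ w ∈ EX, Monoid.Coprod.lift (altToSU n F q) (emb hF (e4 hn)) w = 1) ∧
      ∀ {G : Type} [Group G] (rho : alternatingGroup (Fin n) →* G) (lam : ↥(SU 4 F q) →* G),
        Base hF hn rho lam → (∀ w ∈ EX, Monoid.Coprod.lift rho lam w = 1) → Ext hF hn rho lam := by
  classical
  by_cases hq : q = 2
  swap
  · exact ⟨[], by simp, by simp, fun rho lam B _ =>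
      ext_large hF (by have := two_le_q hF; omega) B⟩
  obtain ⟨ω, g, hgen⟩ := exists_extra_two hF hq
  set g' := twist hF ![ω, oneN, oneN] (RingEquiv.refl F) g with hg'
  obtain ⟨Z, hZlen, hZfix, hZgen⟩ := exists_stab_gens hn
  obtain ⟨σ0, hσ0⟩ : ∃ s : alternatingGroup (Fin n),
      ∀ i : Fin 3, s.1 (e4 hn (t0 i)) = e4 hn (t1 i) :=
    exists_alt_inj (show 3 + 2 ≤ n by omega) (t0.trans (e4 hn)) (t1.trans (e4 hn))
  obtain ⟨ν, hν0, hν1⟩ := exists_alt_two (four_le hn) (i := (⟨3, by omega⟩ : Fin n))
    (j := ⟨4, by omega⟩) (by simp [Fin.ext_iff])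
  rw [pt_eq_e4 hn] at hν0 hν1
  obtain ⟨κ, hκ⟩ : ∃ κ : alternatingGroup (Fin n),
      6 ≤ n → ∀ i : Fin 3, (κ.1 (e4 hn (t0 i))).val = 3 + i.val := by
    by_cases h6 : 6 ≤ n
    · obtain ⟨κ, hκ⟩ : ∃ κ : alternatingGroup (Fin n), ∀ i : Fin 3,
          κ.1 (e4 hn (t0 i)) = win 3 (show 3 + 3 ≤ n by omega) i :=
        exists_alt_inj (show 3 + 2 ≤ n by omega) (t0.trans (e4 hn)) (win 3 (show 3 + 3 ≤ n by omega))
      exact ⟨κ, fun _ i => by rw [hκ i]; simp⟩
    · exact ⟨1, fun h => absurd h h6⟩
  obtain ⟨u0, hu0⟩ := exists_gen_two hF hq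
  let il : alternatingGroup (Fin n) →* Monoid.Coprod (alternatingGroup (Fin n)) ↥(SU 4 F q) :=
    Monoid.Coprod.inl
  let ir : ↥(SU 4 F q) →* Monoid.Coprod (alternatingGroup (Fin n)) ↥(SU 4 F q) :=
    Monoid.Coprod.inr
  let Us : List ↥(SU 2 F q) := if 7 ≤ n then [u0] else [u0, emb hF sw2 u0]
  let Six : List (Monoid.Coprod (alternatingGroup (Fin n)) ↥(SU 4 F q)) :=
    if 6 ≤ n then [g, g'].map fun x =>
      comm (ir (emb hF t0 x)) (il κ * ir (emb hF t0 g) * (il κ)⁻¹) else []
  let EX := Z.map (fun z => comm (il z) (ir (emb hF t0 g))) ++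
    Us.map (fun u => comm (ir (emb hF t0 g)) (il ν * ir (emb hF p01 u) * (il ν)⁻¹)) ++
    [ir (emb hF t1 g) * (il σ0 * ir (emb hF t0 g) * (il σ0)⁻¹)⁻¹] ++ Six
  refine ⟨EX, ?_, ?_, ?_⟩
  · rw [if_pos hq]
    simp only [EX, Us, Six, List.length_append, List.length_map, List.length_cons, List.length_nil,
      apply_ite List.length]
    split_ifs at hZlen ⊢ <;> omega
  · intro w hw
    simp only [EX, Six, List.mem_append, List.mem_map, List.mem_singleton] at hw
    rcases hw with ((⟨z, hz, rfl⟩ | ⟨u, -, rfl⟩) | rfl) | hw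
    · simp only [il, ir, comm, map_mul, map_inv, Monoid.Coprod.lift_apply_inl,
        Monoid.Coprod.lift_apply_inr]
      rw [mul_inv_eq_one, emb_trans, altToSU_conj_emb]
      exact congrArg (fun w => emb hF w g) (Function.Embedding.ext fun i =>
        hZfix z hz _ (by simp [e4_val, t0]))
    · simp only [il, ir, map_mul, map_inv, Monoid.Coprod.lift_apply_inl, Monoid.Coprod.lift_apply_inr,
        comm]
      rw [emb_trans, emb_trans, altToSU_conj_emb]
      refine comm_eq_one.2 (emb_commute hF _ _ (fun i j h => ?_) _ _)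
      have h' : e4 hn (t0 i) = ν.1 (e4 hn (p01 j)) := h
      have hi : (e4 hn (t0 i)).val < 3 := by simp [e4_val, t0]
      have hj : 3 ≤ (ν.1 (e4 hn (p01 j))).val := by
        fin_cases j
        · exact (show 3 ≤ (ν.1 (e4 hn 0)).val by rw [hν0])
        · exact (show 3 ≤ (ν.1 (e4 hn 1)).val by rw [hν1]; simp)
      rw [h'] at hi
      omega
    · simp only [il, ir, map_mul, map_inv, Monoid.Coprod.lift_apply_inl, Monoid.Coprod.lift_apply_inr]
      rw [mul_inv_eq_one, emb_trans, emb_trans, altToSU_conj_emb]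
      exact congrArg (fun w => emb hF w g) (Function.Embedding.ext fun i => (hσ0 i).symm)
    · split_ifs at hw with h6
      · simp only [List.map_cons, List.map_nil, List.mem_cons, List.not_mem_nil, or_false] at hw
        rcases hw with rfl | rfl <;>
        · simp only [il, ir, map_mul, map_inv, Monoid.Coprod.lift_apply_inl,
            Monoid.Coprod.lift_apply_inr, comm]
          simp only [emb_trans]
          rw [altToSU_conj_emb]
          refine comm_eq_one.2 (emb_commute hF _ _ (fun i j h => ?_) _ _)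
          have h' : e4 hn (t0 i) = κ.1 (e4 hn (t0 j)) := h
          have hi : (e4 hn (t0 i)).val < 3 := by simp [e4_val, t0]
          rw [h', hκ h6 j] at hi
          omega
      · simp at hw
  · intro G _ rho lam B hrel
    have hc : ∀ w1 w2, comm w1 w2 ∈ EX →
        Commute (Monoid.Coprod.lift rho lam w1) (Monoid.Coprod.lift rho lam w2) := fun w1 w2 h => by
      refine comm_eq_one.1 ?_
      have := hrel _ h
      simpa [comm] using this
    have hstab : ∀ z : alternatingGroup (Fin n), (∀ i : Fin 3, z.1 (e4 hn (t0 i)) = e4 hn (t0 i)) →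
        Commute (rho z) (lam (emb hF t0 g)) := by
      intro z hz
      have h := hZgen ((Subgroup.centralizer {lam (emb hF t0 g)}).comap rho) (fun z' hz' => by
        have h := hc (il z') (ir (emb hF t0 g)) (List.mem_append_left _ (List.mem_append_left _
          (List.mem_append_left _ (List.mem_map.2 ⟨z', hz', rfl⟩))))
        simp only [il, ir, Monoid.Coprod.lift_apply_inl, Monoid.Coprod.lift_apply_inr] at h
        exact Subgroup.mem_centralizer_singleton_iff.2 h.eq) z fun i hi => by
          have h := hz ⟨i.val, hi⟩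
          rwa [show e4 hn (t0 ⟨i.val, hi⟩) = i from Fin.ext (by simp [e4_val, t0])] at h
      exact Subgroup.mem_centralizer_singleton_iff.1 h
    have hfaru : ∀ u ∈ Us, Commute (lam (emb hF t0 g)) (rho ν * lam (emb hF p01 u) * (rho ν)⁻¹) := by
      intro u hu
      have h := hc (ir (emb hF t0 g)) (il ν * ir (emb hF p01 u) * (il ν)⁻¹) (List.mem_append_left _
        (List.mem_append_left _ (List.mem_append_right _ (List.mem_map.2 ⟨u, hu, rfl⟩))))
      simpa only [il, ir, map_mul, map_inv, Monoid.Coprod.lift_apply_inl,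
        Monoid.Coprod.lift_apply_inr] using h
    have hswap : Commute (lam (emb hF t0 g)) (rho ν * lam (emb hF p01 (emb hF sw2 u0)) * (rho ν)⁻¹) := by
      by_cases h7 : 7 ≤ n
      swap
      · exact hfaru _ (by simp [Us, h7])
      obtain ⟨z, hz⟩ : ∃ z : alternatingGroup (Fin n), ∀ i : Fin 5,
          z.1 (win 0 (show 0 + 5 ≤ n by omega) i) =
            ((swap (3 : Fin 5) 4).toEmbedding.trans (win 0 (show 0 + 5 ≤ n by omega))) i :=
        exists_alt_inj (show 5 + 2 ≤ n by omega) _ _
      have hz3 : ∀ i : Fin 3, z.1 (e4 hn (t0 i)) = e4 hn (t0 i) := fun i => by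
        have h := hz (Fin.castLE (by omega) i)
        have e : win 0 (show 0 + 5 ≤ n by omega) (Fin.castLE (show 3 ≤ 5 by omega) i) = e4 hn (t0 i) :=
          Fin.ext (by simp [e4_val, t0])
        rw [e] at h
        rw [h]
        show win 0 (show 0 + 5 ≤ n by omega) (swap (3 : Fin 5) 4 (Fin.castLE (show 3 ≤ 5 by omega) i)) = _
        rw [swap_apply_of_ne_of_ne, e] <;>
          (intro e'; have := congrArg Fin.val e'; simp at this; omega)
      have h := (hfaru u0 (by simp [Us, h7])).map (MulAut.conj (rho z)).toMonoidHom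
      simp only [MulEquiv.toMonoidHom_eq_coe, MonoidHom.coe_coe, MulAut.conj_apply,
        mul_inv_eq_iff_eq_mul.2 (hstab z hz3).eq] at h
      rw [← flip_pair hF B.cyc u0]
      convert h using 1
      calc rho ν * (rho (extAlt (e4 hn) flip4) * lam (emb hF p01 u0) * (rho (extAlt (e4 hn) flip4))⁻¹) *
            (rho ν)⁻¹
          = rho (ν * extAlt (e4 hn) flip4) * lam (emb hF p01 u0) *
              (rho (ν * extAlt (e4 hn) flip4))⁻¹ := by rw [map_mul]; group
        _ = rho (z * ν) * lam (emb hF p01 u0) * (rho (z * ν))⁻¹ := by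
            refine B.conj_eq hF ?_ ?_ u0
            · rw [Subgroup.coe_mul, Subgroup.coe_mul, Perm.mul_apply, Perm.mul_apply, extAlt_apply,
                show (flip4.1 0 : Fin 4) = 1 from rfl, hν1, hν0,
                show (⟨3, by omega⟩ : Fin n) = win 0 (show 0 + 5 ≤ n by omega) 3 from Fin.ext (by simp),
                hz 3]
              exact Fin.ext (by simp)
            · rw [Subgroup.coe_mul, Subgroup.coe_mul, Perm.mul_apply, Perm.mul_apply, extAlt_apply,
                show (flip4.1 1 : Fin 4) = 0 from rfl, hν0, hν1,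
                show (⟨4, by omega⟩ : Fin n) = win 0 (show 0 + 5 ≤ n by omega) 4 from Fin.ext (by simp),
                hz 4]
              exact Fin.ext (by simp)
        _ = _ := by rw [map_mul]; group
    have hfar : ∀ u, Commute (lam (emb hF t0 g)) (rho ν * lam (emb hF p01 u) * (rho ν)⁻¹) := by
      intro u
      have hle : Subgroup.closure ({u0, emb hF sw2 u0} : Set ↥(SU 2 F q)) ≤
          (Subgroup.centralizer {lam (emb hF t0 g)}).comap
            ((MulAut.conj (rho ν)).toMonoidHom.comp (lam.comp (emb hF p01))) := by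
        rw [Subgroup.closure_le]
        rintro x (rfl | rfl)
        · refine Subgroup.mem_centralizer_singleton_iff.2 ?_
          exact (hfaru _ (by by_cases h7 : 7 ≤ n <;> simp [Us, h7])).symm.eq
        · exact Subgroup.mem_centralizer_singleton_iff.2 hswap.symm.eq
      exact (Subgroup.mem_centralizer_singleton_iff.1 (hle (hu0 ▸ Subgroup.mem_top u)) :
        rho ν * lam (emb hF p01 u) * (rho ν)⁻¹ * lam (emb hF t0 g) =
          lam (emb hF t0 g) * (rho ν * lam (emb hF p01 u) * (rho ν)⁻¹)).symm
    refine ext_two hF B ω g hgen hstab ⟨σ0, hσ0, ?_⟩ ⟨ν, by rw [hν0], by rw [hν1], hfar⟩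
      fun h6 => ⟨κ, hκ h6, fun x hx => ?_⟩
    · have h := hrel (ir (emb hF t1 g) * (il σ0 * ir (emb hF t0 g) * (il σ0)⁻¹)⁻¹)
        (List.mem_append_left _ (List.mem_append_right _ (List.mem_singleton_self _)))
      simpa only [il, ir, map_mul, map_inv, Monoid.Coprod.lift_apply_inl,
        Monoid.Coprod.lift_apply_inr, mul_inv_eq_one] using h
    · have h := hc (ir (emb hF t0 x)) (il κ * ir (emb hF t0 g) * (il κ)⁻¹) (List.mem_append_right _ (by
        simp only [Six, if_pos h6, List.mem_map, List.mem_cons, List.not_mem_nil, or_false]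
        exact ⟨x, hx, rfl⟩))
      simpa only [il, ir, map_mul, map_inv, Monoid.Coprod.lift_apply_inl,
        Monoid.Coprod.lift_apply_inr] using h

/-- The first four points and `A_n` generate. -/
theorem model_surjective (hn : 5 ≤ n) :
    (altToSU n F q).range ⊔ (emb hF (e4 hn)).range = (⊤ : Subgroup ↥(SU n F q)) := by
  refine windows_generate hF (by omega) _ fun b hb => ?_
  rintro _ ⟨x, rfl⟩
  obtain ⟨τ, hτ⟩ := exists_shift hn hb (Or.inl (by omega))
  rw [show emb hF (win b hb) x =
      altToSU n F q τ * emb hF (e4 hn) (emb hF t0 x) * (altToSU n F q τ)⁻¹ by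
    rw [emb_trans, altToSU_conj_emb]
    exact congrArg (fun w => emb hF w x) (Function.Embedding.ext fun i => by
      show win b hb i = τ.1 (e4 hn (t0 i))
      rw [show e4 hn (t0 i) = win 0 (show 0 + 3 ≤ n by omega) i from
        Fin.ext (by simp [e4_val, t0]), hτ i])]
  exact Subgroup.mul_mem _ (Subgroup.mul_mem _ (Subgroup.mem_sup_left ⟨τ, rfl⟩)
    (Subgroup.mem_sup_right ⟨_, rfl⟩)) (Subgroup.inv_mem _ (Subgroup.mem_sup_left ⟨τ, rfl⟩))

/-- `SU_n(q)`, `n ≥ 5`, on six generators. -/
theorem su_six (hn : 5 ≤ n) :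
    ∃ R : Finset (FreeGroup (Fin 6)), R.card ≤ (if n = 5 then 35 else 39) ∧
      Nonempty (PresentedGroup (↑R : Set (FreeGroup (Fin 6))) ≃* ↥(SU n F q)) := by
  classical
  obtain ⟨R4, hR4, eB, hB4⟩ := su_four_pres hF
  obtain ⟨RA, hRA, eA⟩ : ∃ RA : Finset (FreeGroup (Fin 2)), RA.card ≤ (if n = 5 then 3 else 8) ∧
      Nonempty (PresentedGroup (↑RA : Set (FreeGroup (Fin 2))) ≃* alternatingGroup (Fin n)) := by
    by_cases h5 : n = 5
    · subst h5; simpa using CfsgLib.SLPres77.alt_five_pres
    · rw [if_neg h5]; exact (Cfsg.Agent.S2284.result n).2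
  obtain ⟨eA⟩ := eA
  obtain ⟨R', -, ⟨eA4⟩⟩ := CfsgLib.SLPres77.alt_four_pres
  obtain ⟨z, π, hzπ, hzgen⟩ := exists_cent_elt hn
  obtain ⟨u1, u2, hu⟩ := exists_su_two_gens hF
  obtain ⟨EX, hEXlen, hEXsat, hEXgive⟩ := exists_extra_rels hF hn
  let il : alternatingGroup (Fin n) →* Monoid.Coprod (alternatingGroup (Fin n)) ↥(SU 4 F q) :=
    Monoid.Coprod.inl
  let ir : ↥(SU 4 F q) →* Monoid.Coprod (alternatingGroup (Fin n)) ↥(SU 4 F q) :=
    Monoid.Coprod.inr
  let EL := [0, 1].map (fun i => ir (altToSU 4 F q (eA4 (PresentedGroup.of i))) *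
      (il (extAlt (e4 hn) (eA4 (PresentedGroup.of i))))⁻¹) ++
    [u1, u2].map (fun u => il z * ir (emb hF p01 u) * (il z)⁻¹ *
      (ir (emb hF p01 (emb hF π.toEmbedding u)))⁻¹) ++ EX
  obtain ⟨R, hR, e, heA, heB⟩ := exists_amalg RA eA R4 eB EL (altToSU n F q) (emb hF (e4 hn)) (by
    intro w hw
    simp only [EL, List.mem_append, List.mem_map] at hw
    rcases hw with (⟨i, -, rfl⟩ | ⟨u, -, rfl⟩) | hw
    · simp only [il, ir, map_mul, map_inv, Monoid.Coprod.lift_apply_inl, Monoid.Coprod.lift_apply_inr,
        mul_inv_eq_one, emb_altToSU]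
    · simp only [il, ir, map_mul, map_inv, Monoid.Coprod.lift_apply_inl, Monoid.Coprod.lift_apply_inr,
        mul_inv_eq_one]
      rw [emb_trans, emb_trans, emb_trans, altToSU_conj_emb]
      refine congrArg (fun w => emb hF w u) (Function.Embedding.ext fun i => ?_)
      have hp : ∀ j : Fin 2, e4 hn (p01 j) = win 0 (show 0 + 2 ≤ n by omega) j := fun j =>
        Fin.ext (by simp [e4_val, p01])
      show z.1 (e4 hn (p01 i)) = e4 hn (p01 (π i))
      rw [hp, hp, hzπ]
    · exact hEXsat w hw)
    (model_surjective hF hn) (by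
    intro G _ rho lam hrel
    have hcyc : ∀ a, lam (altToSU 4 F q a) = rho (extAlt (e4 hn) a) := by
      intro a
      have h : lam.comp (altToSU 4 F q) = rho.comp (extAlt (e4 hn)) := by
        refine MonoidHom.eq_of_eqOn_top ?_
        have htop : Subgroup.closure (Set.range fun i => eA4 (PresentedGroup.of i)) = ⊤ := by
          have h := congrArg (Subgroup.map eA4.toMonoidHom)
            (PresentedGroup.closure_range_of (↑R' : Set (FreeGroup (Fin 2))))
          rw [MonoidHom.map_closure, Subgroup.map_top_of_surjective _ eA4.surjective,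
            ← Set.range_comp] at h
          exact h
        rw [← htop]
        refine MonoidHom.eqOn_closure ?_
        rintro _ ⟨i, rfl⟩
        have h := hrel (ir (altToSU 4 F q (eA4 (PresentedGroup.of i))) *
          (il (extAlt (e4 hn) (eA4 (PresentedGroup.of i))))⁻¹) (List.mem_append_left _
            (List.mem_append_left _ (List.mem_map.2 ⟨i, by fin_cases i <;> simp, rfl⟩)))
        show lam (altToSU 4 F q _) = rho (extAlt (e4 hn) _)
        simpa only [il, ir, map_mul, map_inv, Monoid.Coprod.lift_apply_inl,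
          Monoid.Coprod.lift_apply_inr, mul_inv_eq_one] using h
      exact DFunLike.congr_fun h a
    have hz : ∀ u, rho z * lam (emb hF p01 u) * (rho z)⁻¹ = lam (emb hF p01 (emb hF π.toEmbedding u)) := by
      refine DFunLike.congr_fun (f := (MulAut.conj (rho z)).toMonoidHom.comp (lam.comp (emb hF p01)))
        (g := lam.comp ((emb hF p01).comp (emb hF π.toEmbedding))) (MonoidHom.eq_of_eqOn_top ?_)
      rw [← hu]
      refine MonoidHom.eqOn_closure ?_
      intro u hu'
      have h := hrel (il z * ir (emb hF p01 u) * (il z)⁻¹ *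
        (ir (emb hF p01 (emb hF π.toEmbedding u)))⁻¹) (List.mem_append_left _
          (List.mem_append_right _ (List.mem_map.2 ⟨u, by
            rcases hu' with rfl | rfl <;> simp, rfl⟩)))
      show rho z * lam (emb hF p01 u) * (rho z)⁻¹ = lam (emb hF p01 (emb hF π.toEmbedding u))
      simpa only [il, ir, map_mul, map_inv, Monoid.Coprod.lift_apply_inl,
        Monoid.Coprod.lift_apply_inr, mul_inv_eq_one] using h
    have B : Base hF hn rho lam := ⟨hcyc, fun x x0 x1 => by
      set E := extAlt (e4 hn) flip4 with hE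
      have hflip : ∀ u, rho E * lam (emb hF p01 u) * (rho E)⁻¹ = lam (emb hF p01 (emb hF sw2 u)) :=
        fun u => flip_pair hF hcyc u
      have hmem : ∀ w : alternatingGroup (Fin n),
          (∀ u, rho w * lam (emb hF p01 u) * (rho w)⁻¹ = lam (emb hF p01 u)) →
          w ∈ (Subgroup.centralizer (Set.range fun u => lam (emb hF p01 u))).comap rho := by
        intro w hw
        refine Subgroup.mem_centralizer_iff.2 ?_
        rintro _ ⟨u, rfl⟩
        exact (mul_inv_eq_iff_eq_mul.1 (hw u)).symm
      have h := hzgen E ((Subgroup.centralizer (Set.range fun u => lam (emb hF p01 u))).comap rho)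
        (by
          refine Equiv.ext fun r => ?_
          by_cases hr : ∃ i, e4 hn i = r
          · obtain ⟨i, rfl⟩ := hr
            rw [hE, extAlt_apply, Perm.mul_apply, ← pt_eq_e4 hn, ← pt_eq_e4 hn,
              (pt_inj (four_le hn)).swap_apply, (pt_inj (four_le hn)).swap_apply]
            rfl
          · push Not at hr
            rw [hE, extAlt_other _ _ hr, Perm.mul_apply, swap_apply_of_ne_of_ne (x := r), swap_apply_of_ne_of_ne (x := r)] <;>
              (rw [pt_eq_e4 hn]; exact (hr _).symm))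
        (fun hπ => by
          subst hπ
          have hz' : ∀ u, rho z * lam (emb hF p01 u) * (rho z)⁻¹ = lam (emb hF p01 u) := fun u => by
            rw [hz, show (1 : Perm (Fin 2)).toEmbedding = Function.Embedding.refl _ from rfl, emb_refl]
          refine ⟨hmem _ hz', hmem _ fun u => ?_⟩
          rw [map_mul, map_mul, show ∀ a b c d : G, a * b * c * d * (a * b * c)⁻¹ =
            a * (b * (c * d * c⁻¹) * b⁻¹) * a⁻¹ from fun a b c d => by group, hflip, hz', hflip,
            sw2_sw2 hF])
        (fun hπ => by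
          have hπ' : π = swap 0 1 := by
            revert hπ
            have : ∀ p : Perm (Fin 2), p ≠ 1 → p = swap 0 1 := by decide
            exact this π
          have hz' : ∀ u, rho z * lam (emb hF p01 u) * (rho z)⁻¹ = lam (emb hF p01 (emb hF sw2 u)) :=
            fun u => by rw [hz, hπ']; rfl
          refine ⟨hmem _ fun u => ?_, hmem _ fun u => ?_⟩ <;>
            rw [map_mul, show ∀ a b c : G, a * b * c * (a * b)⁻¹ = a * (b * c * b⁻¹) * a⁻¹ from
              fun a b c => by group]
          · rw [hz', hflip, sw2_sw2 hF]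
          · rw [hflip, hz', sw2_sw2 hF])
        x (by rw [pt_eq_e4 hn]; exact x0) (by rw [pt_eq_e4 hn]; exact x1)
      intro u
      exact (Subgroup.mem_centralizer_iff.1 h _ ⟨u, rfl⟩).symm⟩
    exact (hEXgive rho lam B fun w hw => hrel w (List.mem_append_right _ hw)).exists_lift hF B)
  let j : Fin 6 → Fin (2 + 6) := ![2, 3, 4, 7, 0, 1]
  have hj : Function.Injective j := by decide
  let b : Fin 6 → ↥(SU n F q) := fun i => e (PresentedGroup.of (j i))
  have hgen : Subgroup.closure (Set.range b) = ⊤ := by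
    refine eq_top_iff.2 ((model_surjective hF hn).ge.trans (sup_le ?_ ?_))
    · rintro _ ⟨a, rfl⟩
      have htop : Subgroup.closure (Set.range fun i => eA (PresentedGroup.of i)) = ⊤ := by
        have h := congrArg (Subgroup.map eA.toMonoidHom)
          (PresentedGroup.closure_range_of (↑RA : Set (FreeGroup (Fin 2))))
        rw [MonoidHom.map_closure, Subgroup.map_top_of_surjective _ eA.surjective,
          ← Set.range_comp] at h
        exact h
      have hle : Subgroup.closure (Set.range fun i => eA (PresentedGroup.of i)) ≤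
          (Subgroup.closure (Set.range b)).comap (altToSU n F q) := by
        rw [Subgroup.closure_le]
        rintro _ ⟨i, rfl⟩
        refine Subgroup.subset_closure ⟨![4, 5] i, ?_⟩
        fin_cases i
        · exact heA 0
        · exact heA 1
      exact hle (htop ▸ Subgroup.mem_top a)
    · rintro _ ⟨a, rfl⟩
      have hle : Subgroup.closure ({eB (PresentedGroup.of 0), eB (PresentedGroup.of 1),
          eB (PresentedGroup.of 2), eB (PresentedGroup.of 5)} : Set ↥(SU 4 F q)) ≤
          (Subgroup.closure (Set.range b)).comap (emb hF (e4 hn)) := by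
        rw [Subgroup.closure_le]
        rintro x (rfl | rfl | rfl | rfl)
        · exact Subgroup.subset_closure ⟨0, heB 0⟩
        · exact Subgroup.subset_closure ⟨1, heB 1⟩
        · exact Subgroup.subset_closure ⟨2, heB 2⟩
        · exact Subgroup.subset_closure ⟨3, heB 5⟩
      exact hle (hB4 ▸ Subgroup.mem_top a)
  rw [← FreeGroup.range_lift_eq_closure, MonoidHom.range_eq_top] at hgen
  choose w0 hw0 using fun k => hgen (e (PresentedGroup.of k))
  obtain ⟨R6, hR6, e6, -⟩ := CfsgLib.AltPres54.change_gens R e b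
    (fun k => if h : ∃ i, j i = k then FreeGroup.of h.choose else w0 k)
    (fun k => by
      by_cases h : ∃ i, j i = k
      · rw [dif_pos h, FreeGroup.lift_apply_of]
        show e (PresentedGroup.of (j h.choose)) = _
        rw [h.choose_spec]
      · rw [dif_neg h, hw0])
    (fun i => FreeGroup.of (j i)) (fun i => rfl) ∅
    (fun i _ => by
      rw [FreeGroup.lift_apply_of, dif_pos ⟨i, rfl⟩]
      exact congrArg FreeGroup.of (hj (Exists.choose_spec (p := fun i' => j i' = j i) ⟨i, rfl⟩)))
  refine ⟨R6, ?_, ⟨e6⟩⟩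
  simp only [EL, List.length_append, List.length_map, List.length_cons, List.length_nil] at hR
  simp only [Finset.card_empty] at hR6
  have hq21 : q = 2 → R4.card ≤ 21 := fun h => by
    subst h; simpa using hR4
  have h27 : R4.card ≤ 27 := hR4.trans (by split_ifs <;> omega)
  by_cases hq : q = 2
  · have := hq21 hq
    rw [if_pos hq] at hEXlen
    split_ifs at hRA ⊢ <;> omega
  · rw [if_neg hq] at hEXlen
    split_ifs at hRA ⊢ <;> omega

/-- The centre of `SU_n` is cyclic: one relation more for `PSU_n`. -/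
theorem psu_pres {m : ℕ} (hn : 2 ≤ n) (R : Finset (FreeGroup (Fin m)))
    (e : PresentedGroup (↑R : Set (FreeGroup (Fin m))) ≃* ↥(SU n F q)) :
    ∃ R' : Finset (FreeGroup (Fin m)), R'.card ≤ R.card + 1 ∧
      Nonempty (PresentedGroup (↑R' : Set (FreeGroup (Fin m))) ≃* Cfsg.PSU n F q) := by
  set Z := Subgroup.center ↥(Cfsg.SU n F q) with hZ
  have hsc := fun A : Z => (mem_center_SU_iff hF hn A.1).1 A.2
  let i0 : Fin n := ⟨0, by omega⟩
  let f : Z →* F :=
    { toFun := fun A => A.1.1.1 i0 i0
      map_one' := by simp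
      map_mul' := fun A B => by
        obtain ⟨a, ha⟩ := hsc A
        obtain ⟨b, hb⟩ := hsc B
        simp [ha, hb] }
  have hf : Function.Injective f := fun A B h => by
    obtain ⟨a, ha⟩ := hsc A
    obtain ⟨b, hb⟩ := hsc B
    have hab : a = b := by simpa [f, ha, hb] using h
    exact Subtype.ext (Subtype.ext (Subtype.ext (by rw [ha, hb, hab])))
  haveI : IsCyclic Z := isCyclic_of_subgroup_isDomain f hf
  exact Cfsg.Agent.S2289.mod_center R e

end CfsgLib.SUPres
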